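import Groth.Agent.Ext97.Twist
import Groth.Agent.Mum71.TensorSec
import Groth.Agent.Om3.DetSeq
import Mathlib.LinearAlgebra.Matrix.Kronecker
import Mathlib.LinearAlgebra.TensorProduct.Basis
import Mathlib.LinearAlgebra.Determinant

/-! The determinant of a tensor product of bundles. -/

set_option autoImplicit false
set_option backward.isDefEq.respectTransparency.types false

universe u

open CategoryTheory CategoryTheory.Limits AlgebraicGeometry TopologicalSpace Opposite exteriorPower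
open scoped TensorProduct Kronecker

noncomputable section

namespace Groth.Agent.Ext97

open Groth.Agent QC70 Props58.LocFree Om3

/-- A family of `N` vectors wedges to its determinant times the wedge of a basis. -/
theorem ιMulti_eq_det_smul {R M : Type u} [CommRing R] [AddCommGroup M] [Module R M] {N : ℕ}
    (b : Module.Basis (Fin N) R M) (v : Fin N → M) : ιMulti R N v = b.det v • ιMulti R N b := by
  obtain ⟨a, ha⟩ := (DetSeq.bijective_smul_top b).2 (ιMulti R N v)
  have h := congrArg (alternatingMapLinearEquiv b.det) ha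
  rw [map_smul, alternatingMapLinearEquiv_apply_ιMulti, alternatingMapLinearEquiv_apply_ιMulti,
    Module.Basis.det_self, smul_eq_mul, mul_one] at h
  rw [← h]
  exact ha.symm

/-- The determinant of the tensor products of two families. -/
theorem det_tensor {R M N P : Type u} [CommRing R] [AddCommGroup M] [Module R M] [AddCommGroup N] [Module R N]
    [AddCommGroup P] [Module R P] {e f : ℕ} (bM : Module.Basis (Fin e) R M) (bN : Module.Basis (Fin f) R N)
    (bP : Module.Basis (Fin (e * f)) R P) (τ : M →ₗ[R] N →ₗ[R] P)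
    (h : ∀ i j, τ (bM i) (bN j) = bP (finProdFinEquiv (i, j))) (x : Fin e → M) (y : Fin f → N) :
    bP.det (fun k => τ (x (finProdFinEquiv.symm k).1) (y (finProdFinEquiv.symm k).2)) =
      bM.det x ^ f * bN.det y ^ e := by
  let T := ((bM.tensorProduct bN).reindex finProdFinEquiv).equiv bP (Equiv.refl _)
  have hT : T.toLinearMap = TensorProduct.lift τ := ((bM.tensorProduct bN).reindex finProdFinEquiv).ext fun k => by
    obtain ⟨⟨i, j⟩, rfl⟩ := finProdFinEquiv.surjective k
    rw [LinearEquiv.coe_coe, Module.Basis.equiv_apply, Equiv.refl_apply, Module.Basis.reindex_apply,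
      Equiv.symm_apply_apply, Module.Basis.tensorProduct_apply, TensorProduct.lift.tmul, h]
  have hm : bP.toMatrix (fun k => τ (x (finProdFinEquiv.symm k).1) (y (finProdFinEquiv.symm k).2)) =
      Matrix.reindex finProdFinEquiv finProdFinEquiv (bM.toMatrix x ⊗ₖ bN.toMatrix y) := by
    ext k l
    have h1 : τ (x (finProdFinEquiv.symm l).1) (y (finProdFinEquiv.symm l).2) =
        T (x (finProdFinEquiv.symm l).1 ⊗ₜ[R] y (finProdFinEquiv.symm l).2) := by
      rw [← LinearEquiv.coe_coe T, hT, TensorProduct.lift.tmul]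
    have h2 : ∀ z, bP.repr (T z) = ((bM.tensorProduct bN).reindex finProdFinEquiv).repr z := fun z => by
      refine LinearMap.congr_fun (((bM.tensorProduct bN).reindex finProdFinEquiv).ext
        (f₁ := bP.repr.toLinearMap.comp T.toLinearMap)
        (f₂ := ((bM.tensorProduct bN).reindex finProdFinEquiv).repr.toLinearMap) fun m => ?_) z
      simp only [T, LinearMap.comp_apply, LinearEquiv.coe_coe]
      erw [Module.Basis.equiv_apply]
      rw [Equiv.refl_apply, Module.Basis.repr_self, Module.Basis.repr_self]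
    obtain ⟨⟨i, j⟩, rfl⟩ := finProdFinEquiv.surjective k
    simp only [Module.Basis.toMatrix_apply, h1, h2, Module.Basis.repr_reindex_apply, Equiv.symm_apply_apply,
      Module.Basis.tensorProduct_repr_tmul_apply, Matrix.reindex_apply, Matrix.submatrix_apply,
      Matrix.kroneckerMap_apply, smul_eq_mul]
    exact mul_comm _ _
  rw [Module.Basis.det_apply, hm, Matrix.det_reindex_self, Matrix.det_kronecker, Fintype.card_fin, Fintype.card_fin,
    Module.Basis.det_apply, Module.Basis.det_apply]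

variable {X : Scheme.{u}}

/-- The wedge of a basis of sections on an affine open is a frame of the determinant. -/
theorem isFrame_psi {E DE : X.Modules} [DE.IsQuasicoherent] {e : ℕ}
    (ψ : ∀ W : X.affineOpens, ↥(⋀[Γ(X, W.1)]^e Γ(E, W.1)) ≃ₗ[Γ(X, W.1)] Γ(DE, W.1))
    (W : X.affineOpens) (b : Module.Basis (Fin e) Γ(X, W.1) Γ(E, W.1)) :
    Var76.LineBundle.IsFrame DE W.1 (ψ W (ιMulti Γ(X, W.1) e b)) := by
  let bD : Module.Basis (Fin 1) Γ(X, W.1) Γ(DE, W.1) :=
    ((Module.Basis.singleton (Fin 1) Γ(X, W.1)).map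
      ((LinearEquiv.ofBijective (LinearMap.toSpanSingleton Γ(X, W.1) _ (ιMulti Γ(X, W.1) e b))
        (DetSeq.bijective_smul_top b)).trans (ψ W)))
  have hb : ∀ i, bD i = ψ W (ιMulti Γ(X, W.1) e b) := fun i => by
    show ψ W (LinearMap.toSpanSingleton _ _ _ (Module.Basis.singleton (Fin 1) Γ(X, W.1) i)) = _
    rw [Module.Basis.singleton_apply, LinearMap.toSpanSingleton_apply, one_smul]
  intro V hV
  have h := (stalkBasis_of_basis W.2 bD).bijective hV
  have h' : (fun a : Fin 1 → Γ(X, V) => ∑ i, a i • QC70.res DE hV (bD i)) =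
      (fun a : Γ(X, V) => a • Var76.LineBundle.res DE hV (ψ W (ιMulti Γ(X, W.1) e b))) ∘ fun a => a 0 := by
    funext a
    simp only [Function.comp_apply, Fin.sum_univ_one, hb]
  rw [show (fun a : Γ(X, V) => a • Var76.LineBundle.res DE hV (ψ W (ιMulti Γ(X, W.1) e b))) =
    (fun a : Fin 1 → Γ(X, V) => ∑ i, a i • QC70.res DE hV (bD i)) ∘ fun a _ => a from by rw [h']; rfl]
  exact h.comp ⟨fun a a' haa => congrFun haa 0, fun a => ⟨a 0, funext fun i => by rw [Subsingleton.elim i 0]⟩⟩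

/-- The change of the wedge of bases between two affine charts. -/
theorem res_psi_eq {E DE : X.Modules} [E.IsQuasicoherent] [DE.IsQuasicoherent] {e : ℕ}
    (ψ : ∀ W : X.affineOpens, ↥(⋀[Γ(X, W.1)]^e Γ(E, W.1)) ≃ₗ[Γ(X, W.1)] Γ(DE, W.1))
    (hψ : ∀ (U V : X.affineOpens) (h : V.1 ≤ U.1) (x : ↥(⋀[Γ(X, U.1)]^e Γ(E, U.1))),
      res DE h (ψ U x) = ψ V (resExt E e h x))
    (W W' : X.affineOpens) (b : Module.Basis (Fin e) Γ(X, W.1) Γ(E, W.1))
    (b' : Module.Basis (Fin e) Γ(X, W'.1) Γ(E, W'.1)) {V : X.Opens} (h : V ≤ W.1) (h' : V ≤ W'.1)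
    (bV : Module.Basis (Fin e) Γ(X, V) Γ(E, V)) (hbV : ∀ j, bV j = res E h (b j)) :
    res DE h' (ψ W' (ιMulti Γ(X, W'.1) e b')) =
      bV.det (fun j => res E h' (b' j)) • res DE h (ψ W (ιMulti Γ(X, W.1) e b)) := by
  refine QC70.section_ext DE _ _ fun y hy => ?_
  obtain ⟨U, hyU, hU⟩ := exists_affine_le hy
  refine ⟨U.1, hU, hyU, ?_⟩
  have h1 : resExt E e (hU.trans h') (ιMulti Γ(X, W'.1) e b') =
      resO X hU (bV.det fun j => res E h' (b' j)) • resExt E e (hU.trans h) (ιMulti Γ(X, W.1) e b) := by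
    rw [← resExt_resExt E h' hU, ← resExt_resExt E h hU, resExt_ιMulti E h', resExt_ιMulti E h,
      ιMulti_eq_det_smul bV (fun j => res E h' (b' j)), resExt_smul,
      show (fun j => res E h (b j)) = ⇑bV from funext fun j => (hbV j).symm]
  rw [res_smul, res_res, res_res, hψ, hψ, h1, map_smul]

theorem nonempty_det_tensor {E F DE DF D : X.Modules} {e f : ℕ}
    (hE : FlatMod.IsFinLocFreeOfRank e E) (hF : FlatMod.IsFinLocFreeOfRank f F)
    (hEq : E.IsQuasicoherent) (hFq : F.IsQuasicoherent)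
    (hDE : ExtPow.IsExtPow e E DE) (hDF : ExtPow.IsExtPow f F DF)
    (hD : ExtPow.IsExtPow (e * f) (CohB1.tensorMod E F) D) :
    Nonempty (D ≅ CohB1.tensorMod (CohB1.tensorPow DE f) (CohB1.tensorPow DF e)) := by
  haveI := hEq; haveI := hFq
  haveI := isQuasicoherent_of_isExtPow hDE
  haveI := isQuasicoherent_of_isExtPow hDF
  haveI := QCTens72.isQuasicoherent_tensorMod E F
  obtain ⟨ψE, hψE⟩ := exists_psi hDE
  obtain ⟨ψF, hψF⟩ := exists_psi hDF
  have hch : ∀ x : X, ∃ W : X.affineOpens, x ∈ W.1 ∧ Nonempty (Module.Basis (Fin e) Γ(X, W.1) Γ(E, W.1)) ∧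
      Nonempty (Module.Basis (Fin f) Γ(X, W.1) Γ(F, W.1)) := by
    intro x
    obtain ⟨U, hxU, hU⟩ := DetSeq.exists_basis hE x
    obtain ⟨U', hxU', hU'⟩ := DetSeq.exists_basis hF x
    obtain ⟨W, hxW, hW⟩ := exists_affine_le (show x ∈ U ⊓ U' from ⟨hxU, hxU'⟩)
    exact ⟨W, hxW, hU W.1 (hW.trans inf_le_left), hU' W.1 (hW.trans inf_le_right)⟩
  choose W hxW hbE hbF using hch
  obtain ⟨bE, -⟩ : ∃ b : ∀ x, Module.Basis (Fin e) Γ(X, (W x).1) Γ(E, (W x).1), True :=
    ⟨fun x => (hbE x).some, trivial⟩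
  obtain ⟨bF, -⟩ : ∃ b : ∀ x, Module.Basis (Fin f) Γ(X, (W x).1) Γ(F, (W x).1), True :=
    ⟨fun x => (hbF x).some, trivial⟩
  choose eT heT using fun x => Mum71.exists_tensor_equiv E F (W x).2
  let b : ∀ x, Module.Basis (Fin (e * f)) Γ(X, (W x).1) Γ(CohB1.tensorMod E F, (W x).1) := fun x =>
    (((bE x).tensorProduct (bF x)).reindex finProdFinEquiv).map (eT x)
  have hb : ∀ x i j, b x (finProdFinEquiv (i, j)) = Amp73.tm E F (bE x i) (bF x j) := fun x i j => by
    simp only [b, Module.Basis.map_apply, Module.Basis.reindex_apply, Equiv.symm_apply_apply,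
      Module.Basis.tensorProduct_apply, heT]
  have hfr : ∀ x, Var76.LineBundle.IsFrame (CohB1.tensorMod (CohB1.tensorPow DE f) (CohB1.tensorPow DF e)) (W x).1
      (Amp73.tm _ _ (Amp73.epow (ψE (W x) (ιMulti Γ(X, (W x).1) e (bE x))) f)
        (Amp73.epow (ψF (W x) (ιMulti Γ(X, (W x).1) f (bF x))) e)) := fun x =>
    Amp73.isFrame_tm (Amp73.isFrame_epow (isFrame_psi ψE (W x) (bE x)) f)
      (Amp73.isFrame_epow (isFrame_psi ψF (W x) (bF x)) e)
  haveI : (CohB1.tensorMod (CohB1.tensorPow DE f) (CohB1.tensorPow DF e)).IsQuasicoherent :=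
    Mero90.isQCoh_of_isInvertible (Mero90.isInvertible_of_frames fun x => ⟨(W x).1, hxW x, _, hfr x⟩)
  refine nonempty_iso_of_isExtPow hD (isExtPow_of_frames (fun x => (W x).1) (fun x => ⟨x, hxW x⟩)
    (fun x => ⇑(b x)) (fun x => stalkBasis_of_basis (W x).2 (b x)) _ hfr fun i j => ?_)
  have hi : (W i).1 ⊓ (W j).1 ≤ (W i).1 := inf_le_left
  have hj : (W i).1 ⊓ (W j).1 ≤ (W j).1 := inf_le_right
  obtain ⟨bV, hbV⟩ := DetSeq.exists_basis_res (b i) hi
  obtain ⟨bEV, hbEV⟩ := DetSeq.exists_basis_res (bE i) hi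
  obtain ⟨bFV, hbFV⟩ := DetSeq.exists_basis_res (bF i) hi
  let τ := LinearMap.mk₂ Γ(X, (W i).1 ⊓ (W j).1) (fun m n => Amp73.tm E F m n) Amp73.tm_add_left
    (fun a m n => Amp73.tm_smul_left a m n) Amp73.tm_add_right (fun a m n => Amp73.tm_smul_right a m n)
  have hτ : ∀ a c, τ (bEV a) (bFV c) = bV (finProdFinEquiv (a, c)) := fun a c => by
    rw [hbV, hb, hbEV, hbFV]
    exact (Amp73.res_tm hi _ _).symm
  refine ⟨bEV.det (fun a => res E hj (bE j a)) ^ f * bFV.det (fun c => res F hj (bF j c)) ^ e, ?_, ?_⟩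
  · rw [← det_tensor bEV bFV bV τ hτ, show (fun k => res (CohB1.tensorMod E F) hi (b i k)) = ⇑bV from
      funext fun k => (hbV k).symm]
    refine Eq.trans ?_ (ιMulti_eq_det_smul bV _)
    congr 1
    funext k
    obtain ⟨⟨a, c⟩, rfl⟩ := finProdFinEquiv.surjective k
    rw [hb, Equiv.symm_apply_apply]
    exact Amp73.res_tm hj _ _
  · show Var76.LineBundle.res _ hj _ = _ • Var76.LineBundle.res _ hi _
    rw [Amp73.res_tm, Amp73.res_tm, Amp73.res_epow, Amp73.res_epow, Amp73.res_epow, Amp73.res_epow,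
      show Var76.LineBundle.res DE hj (ψE (W j) (ιMulti _ e (bE j))) = _ from
        res_psi_eq ψE hψE (W i) (W j) (bE i) (bE j) hi hj bEV hbEV,
      show Var76.LineBundle.res DF hj (ψF (W j) (ιMulti _ f (bF j))) = _ from
        res_psi_eq ψF hψF (W i) (W j) (bF i) (bF j) hi hj bFV hbFV,
      Amp73.epow_smul, Amp73.epow_smul, Amp73.tm_smul]

end Groth.Agent.Ext97
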