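import Groth.Agent.Om3.ExtPowFrames

/-! Exterior powers from local comparisons on affine opens. -/

set_option autoImplicit false
set_option backward.isDefEq.respectTransparency.types false

universe u

open CategoryTheory CategoryTheory.Limits AlgebraicGeometry TopologicalSpace Opposite exteriorPower

noncomputable section

namespace Groth.Agent.Ext97

open Groth.Agent QC70 Props58.LocFree Om3

variable {X : Scheme.{u}} {E L : X.Modules} {p : ℕ}

theorem exists_affine_le {U : X.Opens} {x : X} (hx : x ∈ U) : ∃ W : X.affineOpens, x ∈ W.1 ∧ W.1 ≤ U := by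
  obtain ⟨W, hW, hxW, hWU⟩ := exists_isAffineOpen_mem_and_subset hx
  exact ⟨⟨W, hW⟩, hxW, hWU⟩

/-- Comparisons of `⋀ E` with `L` on the affine opens of a cover, compatible on generators, give an
exterior power. -/
theorem isExtPow_of_local [E.IsQuasicoherent] [L.IsQuasicoherent] {κ : Type u} (D : κ → X.Opens)
    (hcov : ∀ x : X, ∃ i, x ∈ D i)
    (θ : ∀ (i : κ) (V : X.affineOpens), V.1 ≤ D i → (↥(⋀[Γ(X, V.1)]^p Γ(E, V.1)) ≃ₗ[Γ(X, V.1)] Γ(L, V.1)))
    (hnat : ∀ (i : κ) (V V' : X.affineOpens) (h : V.1 ≤ D i) (h' : V'.1 ≤ V.1) (v : Fin p → Γ(E, V.1)),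
      res L h' (θ i V h (ιMulti Γ(X, V.1) p v)) = θ i V' (h'.trans h) (ιMulti Γ(X, V'.1) p fun k => res E h' (v k)))
    (hij : ∀ (i j : κ) (V : X.affineOpens) (hi : V.1 ≤ D i) (hj : V.1 ≤ D j) (v : Fin p → Γ(E, V.1)),
      θ i V hi (ιMulti Γ(X, V.1) p v) = θ j V hj (ιMulti Γ(X, V.1) p v)) :
    ExtPow.IsExtPow p E L := by
  have hnat' : ∀ (i : κ) (V V' : X.affineOpens) (h : V.1 ≤ D i) (h' : V'.1 ≤ V.1) x,
      res L h' (θ i V h x) = θ i V' (h'.trans h) (resExt E p h' x) := fun i V V' h h' x => by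
    refine DFunLike.congr_fun (semilinear_ext (resO X h')
      (AddMonoidHom.mk' (fun x => res L h' (θ i V h x)) fun a b => by rw [map_add, res_add])
      (AddMonoidHom.mk' (fun x => θ i V' (h'.trans h) (resExt E p h' x)) fun a b => by rw [map_add, map_add])
      (fun r m => ?_) (fun r m => ?_) (ιMulti_span Γ(X, V.1) p Γ(E, V.1)) ?_) x
    · show res L h' (θ i V h (r • m)) = _
      rw [map_smul, res_smul]
      rfl
    · show θ i V' _ (resExt E p h' (r • m)) = _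
      rw [resExt_smul, map_smul]
      rfl
    · rintro _ ⟨v, rfl⟩
      show res L h' (θ i V h (ιMulti _ p v)) = θ i V' _ (resExt E p h' (ιMulti _ p v))
      rw [resExt_ιMulti, hnat]
  have hij' : ∀ (i j : κ) (V : X.affineOpens) (hi : V.1 ≤ D i) (hj : V.1 ≤ D j) x,
      θ i V hi x = θ j V hj x := fun i j V hi hj x =>
    LinearMap.congr_fun (LinearMap.ext_on (f := (θ i V hi).toLinearMap) (g := (θ j V hj).toLinearMap)
      (ιMulti_span Γ(X, V.1) p Γ(E, V.1)) (by rintro _ ⟨v, rfl⟩; exact hij i j V hi hj v)) x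
  let C : X.Opens → Type u := fun U => {q : κ × X.affineOpens // q.2.1 ≤ U ∧ q.2.1 ≤ D q.1}
  have hC : ∀ U : X.Opens, ∀ x ∈ U, ∃ q : C U, x ∈ q.1.2.1 := fun U x hx => by
    obtain ⟨i, hi⟩ := hcov x
    obtain ⟨W, hxW, hW⟩ := exists_affine_le (show x ∈ U ⊓ D i from ⟨hx, hi⟩)
    exact ⟨⟨(i, W), hW.trans inf_le_left, hW.trans inf_le_right⟩, hxW⟩
  have hex : ∀ (U : X.affineOpens) (x : ↥(⋀[Γ(X, U.1)]^p Γ(E, U.1))), ∃ t : Γ(L, U.1), ∀ q : C U.1,
      res L q.2.1 t = θ q.1.1 q.1.2 q.2.2 (resExt E p q.2.1 x) := fun U x =>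
    exists_glue L (fun q : C U.1 => q.1.2.1) (fun q => q.2.1) (fun y hy => by
      obtain ⟨q, hq⟩ := hC U.1 y hy
      exact Opens.mem_iSup.2 ⟨q, hq⟩) _ fun q q' => by
      refine section_ext L _ _ fun y hy => ?_
      obtain ⟨W, hyW, hW⟩ := exists_affine_le hy
      refine ⟨W.1, hW, hyW, ?_⟩
      rw [res_res, res_res, hnat' _ _ W q.2.2 (hW.trans inf_le_left),
        hnat' _ _ W q'.2.2 (hW.trans inf_le_right), resExt_resExt, resExt_resExt]
      exact hij' _ _ W _ _ _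
  choose μ hμ using hex
  have huniq : ∀ (U : X.affineOpens) (t t' : Γ(L, U.1)),
      (∀ q : C U.1, res L q.2.1 t = res L q.2.1 t') → t = t' := fun U t t' h =>
    section_ext' L (fun q : C U.1 => q.1.2.1) (fun q => q.2.1) (fun y hy => by
      obtain ⟨q, hq⟩ := hC U.1 y hy
      exact Opens.mem_iSup.2 ⟨q, hq⟩) t t' h
  let M : ∀ U : X.affineOpens, ↥(⋀[Γ(X, U.1)]^p Γ(E, U.1)) →ₗ[Γ(X, U.1)] Γ(L, U.1) := fun U =>
    { toFun := μ U
      map_add' := fun a b => huniq U _ _ fun q => by rw [res_add, hμ, hμ, hμ, map_add, map_add]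
      map_smul' := fun r a => huniq U _ _ fun q => by
        rw [RingHom.id_apply, res_smul, hμ, hμ, resExt_smul, map_smul] }
  have hM : ∀ (U : X.affineOpens) (i : κ) (V : X.affineOpens) (h : V.1 ≤ U.1) (hi : V.1 ≤ D i) x,
      res L h (M U x) = θ i V hi (resExt E p h x) := fun U i V h hi x => hμ U x ⟨(i, V), h, hi⟩
  have hbij : ∀ U : X.affineOpens, Function.Bijective (M U) := by
    rintro ⟨U, hU⟩
    let S : Set Γ(X, U) := {f | ∃ i, X.basicOpen f ≤ D i}
    have hS : Ideal.span S = ⊤ := by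
      rw [← hU.self_le_iSup_basicOpen_iff]
      intro q hq
      obtain ⟨i, hi⟩ := hcov q
      obtain ⟨f, hf, hqf⟩ := hU.exists_basicOpen_le (V := D i) ⟨q, hi⟩ hq
      exact Opens.mem_iSup.2 ⟨⟨f, i, hf⟩, hqf⟩
    letI A : ∀ f : S, Algebra Γ(X, U) Γ(X, X.basicOpen f.1) := fun f => resAlg (X.basicOpen_le f.1)
    letI mE : ∀ f : S, Module Γ(X, U) Γ(E, X.basicOpen f.1) := fun f => resModule E (X.basicOpen_le f.1)
    letI mL : ∀ f : S, Module Γ(X, U) Γ(L, X.basicOpen f.1) := fun f => resModule L (X.basicOpen_le f.1)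
    haveI tE : ∀ f : S, IsScalarTower Γ(X, U) Γ(X, X.basicOpen f.1) Γ(E, X.basicOpen f.1) :=
      fun f => isScalarTower_res E _
    haveI tL : ∀ f : S, IsScalarTower Γ(X, U) Γ(X, X.basicOpen f.1) Γ(L, X.basicOpen f.1) :=
      fun f => isScalarTower_res L _
    let ε : ∀ f : S, ↥(⋀[Γ(X, U)]^p Γ(E, U)) →ₗ[Γ(X, U)] ↥(⋀[Γ(X, X.basicOpen f.1)]^p Γ(E, X.basicOpen f.1)) :=
      fun f => ExtPowAlg.extMap (S := Γ(X, X.basicOpen f.1)) (resLin E (X.basicOpen_le f.1)) p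
    let ρ : ∀ f : S, Γ(L, U) →ₗ[Γ(X, U)] Γ(L, X.basicOpen f.1) := fun f => resLin L (X.basicOpen_le f.1)
    haveI hε : ∀ f : S, IsLocalizedModule (Submonoid.powers f.1) (ε f) := fun f => isLocalizedModule_resExt E hU f.1
    haveI hρ : ∀ f : S, IsLocalizedModule (Submonoid.powers f.1) (ρ f) := fun f =>
      isLocalizedModule_resLin L (isLocAt_of_isQuasicoherent L hU) f.1
    refine bijective_of_isLocalized_span S hS _ ε _ ρ (M ⟨U, hU⟩) fun f => ?_
    obtain ⟨i, hi⟩ := f.2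
    rw [show IsLocalizedModule.map (Submonoid.powers f.1) (ε f) (ρ f) (M ⟨U, hU⟩) =
        (θ i ⟨X.basicOpen f.1, hU.basicOpen f.1⟩ hi).toLinearMap.restrictScalars Γ(X, U) from
      IsLocalizedModule.linearMap_ext (Submonoid.powers f.1) (ε f) (ρ f) (LinearMap.ext fun x => by
        refine (IsLocalizedModule.map_apply _ (ε f) (ρ f) (M ⟨U, hU⟩) x).trans ?_
        exact hM ⟨U, hU⟩ i ⟨X.basicOpen f.1, hU.basicOpen f.1⟩ (X.basicOpen_le f.1) hi x)]
    exact (θ i ⟨X.basicOpen f.1, hU.basicOpen f.1⟩ hi).bijective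
  refine ⟨fun U => (LinearEquiv.ofBijective (M U) (hbij U)).symm, fun U V h v => ?_⟩
  show res L h (M U (ιMulti _ p v)) = M V (ιMulti _ p fun k => res E h (v k))
  refine huniq V _ _ fun q => ?_
  rw [res_res, hM U q.1.1 q.1.2 (q.2.1.trans h) q.2.2, hM V q.1.1 q.1.2 q.2.1 q.2.2, resExt_ιMulti,
    resExt_ιMulti]
  simp only [res_res]

end Groth.Agent.Ext97
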