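import Groth.Agent.Ext97.Local
import Groth.Agent.Amp73.TensorFrame
import Groth.Agent.Amp73.Powers
import Groth.Agent.QCTens72.Basic
import Groth.Agent.Mero90.Frames
import Groth.Agent.Mero90.Triv

/-! Exterior powers of a twist by a line bundle. -/

set_option autoImplicit false
set_option backward.isDefEq.respectTransparency.types false

universe u

open CategoryTheory CategoryTheory.Limits AlgebraicGeometry TopologicalSpace Opposite exteriorPower

noncomputable section

namespace Groth.Agent.Ext97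

open Groth.Agent Var76.LineBundle Amp73

variable {X : Scheme.{u}}

/-- An exterior power of a linear equivalence. -/
def extEquiv {R M M' : Type u} [CommRing R] [AddCommGroup M] [Module R M] [AddCommGroup M'] [Module R M']
    (p : ℕ) (e : M ≃ₗ[R] M') : ↥(⋀[R]^p M) ≃ₗ[R] ↥(⋀[R]^p M') :=
  LinearEquiv.ofLinearMap (exteriorPower.map p e.toLinearMap) (exteriorPower.map p e.symm.toLinearMap)
    (LinearMap.ext_on (ιMulti_span R p M') (by
      rintro _ ⟨v, rfl⟩
      simp [exteriorPower.map_apply_ιMulti, Function.comp_def]))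
    (LinearMap.ext_on (ιMulti_span R p M) (by
      rintro _ ⟨v, rfl⟩
      simp [exteriorPower.map_apply_ιMulti, Function.comp_def]))

theorem extEquiv_ιMulti {R M M' : Type u} [CommRing R] [AddCommGroup M] [Module R M] [AddCommGroup M'] [Module R M']
    (p : ℕ) (e : M ≃ₗ[R] M') (v : Fin p → M) :
    extEquiv p e (ιMulti R p v) = ιMulti R p fun i => e (v i) :=
  exteriorPower.map_apply_ιMulti e.toLinearMap v

/-- Tensoring sections with a frame. -/
def tmEquiv (F : X.Modules) {L : X.Modules} {U : X.Opens} {e : Γ(L, U)} (he : IsFrame L U e)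
    {V : X.Opens} (h : V ≤ U) : Γ(F, V) ≃ₗ[Γ(X, V)] Γ(CohB1.tensorMod F L, V) :=
  LinearEquiv.ofBijective
    { toFun := fun m => tm F L m (res L h e)
      map_add' := fun m m' => tm_add_left m m' _
      map_smul' := fun a m => tm_smul_left a m _ }
    ⟨fun m m' hm => tm_frame_injective he h m m' hm, fun z => exists_eq_tm_frame he h z⟩

theorem tmEquiv_apply (F : X.Modules) {L : X.Modules} {U : X.Opens} {e : Γ(L, U)} (he : IsFrame L U e)
    {V : X.Opens} (h : V ≤ U) (m : Γ(F, V)) : tmEquiv F he h m = tm F L m (res L h e) := rfl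

theorem isExtPow_twist {E L N : X.Modules} (hEq : E.IsQuasicoherent) (hL : PicF.IsInvertible L) (p : ℕ)
    (hN : ExtPow.IsExtPow p E N) :
    ExtPow.IsExtPow p (CohB1.tensorMod E L) (CohB1.tensorMod N (CohB1.tensorPow L p)) := by
  haveI := hEq
  haveI := Om3.isQuasicoherent_of_isExtPow hN
  haveI : L.IsQuasicoherent := Mero90.isQCoh_of_isInvertible hL
  haveI : (CohB1.tensorPow L p).IsQuasicoherent :=
    Mero90.isQCoh_of_isInvertible (EGA73.isInvertible_tensorPow hL p)
  haveI := QCTens72.isQuasicoherent_tensorMod E L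
  haveI := QCTens72.isQuasicoherent_tensorMod N (CohB1.tensorPow L p)
  obtain ⟨ψ, hψ⟩ := Om3.exists_psi hN
  choose D hxD l hl using fun x : X => Mero90.exists_frame' hL x
  refine isExtPow_of_local D (fun x => ⟨x, hxD x⟩)
    (fun i V h => ((extEquiv p (tmEquiv E (hl i) h).symm).trans (ψ V)).trans
      (tmEquiv N (Amp73.isFrame_epow (hl i) p) h)) ?_ ?_
  · intro i V V' h h' v
    obtain ⟨w, rfl⟩ : ∃ w : Fin p → Γ(E, V.1), (fun k => tmEquiv E (hl i) h (w k)) = v :=
      ⟨fun k => (tmEquiv E (hl i) h).symm (v k), funext fun k => LinearEquiv.apply_symm_apply _ _⟩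
    have h2 : ∀ k, QC70.res (CohB1.tensorMod E L) h' (tmEquiv E (hl i) h (w k)) =
        tmEquiv E (hl i) (h'.trans h) (QC70.res E h' (w k)) := fun k => by
      rw [tmEquiv_apply, tmEquiv_apply]
      exact (res_tm h' _ _).trans (congrArg (tm E L _) (res_res _ _ _ _))
    simp only [LinearEquiv.trans_apply, extEquiv_ιMulti, LinearEquiv.symm_apply_apply, h2]
    rw [tmEquiv_apply, tmEquiv_apply]
    exact (res_tm h' _ _).trans (congrArg₂ (tm N (CohB1.tensorPow L p)) ((hψ V V' h' _).trans (congrArg (ψ V') (Om3.resExt_ιMulti E h' w))) (res_res _ _ _ _))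
  · intro i j V hi hj v
    obtain ⟨w, rfl⟩ : ∃ w : Fin p → Γ(E, V.1), (fun k => tmEquiv E (hl j) hj (w k)) = v :=
      ⟨fun k => (tmEquiv E (hl j) hj).symm (v k), funext fun k => LinearEquiv.apply_symm_apply _ _⟩
    obtain ⟨c, hc⟩ := ((hl i) V.1 hi).2 (res L hj (l j))
    replace hc : c • res L hi (l i) = res L hj (l j) := hc
    have h2 : (fun k => tmEquiv E (hl j) hj (w k)) = fun k => tmEquiv E (hl i) hi (c • w k) := funext fun k => by
      rw [tmEquiv_apply, tmEquiv_apply, tm_smul_left, ← hc, tm_smul_right]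
    simp only [LinearEquiv.trans_apply, extEquiv_ιMulti, LinearEquiv.symm_apply_apply]
    have h3 : (fun k => (tmEquiv E (hl i) hi).symm (tmEquiv E (hl j) hj (w k))) = fun k => c • w k :=
      funext fun k => by rw [congrFun h2 k, LinearEquiv.symm_apply_apply]
    rw [h3, show ιMulti Γ(X, V.1) p (fun k => c • w k) = c ^ p • ιMulti Γ(X, V.1) p w from by
      refine ((ιMulti Γ(X, V.1) p).toMultilinearMap.map_smul_univ (fun _ => c) w).trans ?_
      simp, map_smul]
    rw [tmEquiv_apply, tmEquiv_apply, Amp73.res_epow, Amp73.res_epow, ← hc, Amp73.epow_smul, tm_smul_left,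
      tm_smul_right]

theorem nonempty_iso_twist {E L M N : X.Modules} (hEq : E.IsQuasicoherent) (hL : PicF.IsInvertible L) (p : ℕ)
    (hM : ExtPow.IsExtPow p (CohB1.tensorMod E L) M) (hN : ExtPow.IsExtPow p E N) :
    Nonempty (M ≅ CohB1.tensorMod N (CohB1.tensorPow L p)) := by
  haveI := hEq
  haveI : L.IsQuasicoherent := Mero90.isQCoh_of_isInvertible hL
  haveI := QCTens72.isQuasicoherent_tensorMod E L
  exact Om3.nonempty_iso_of_isExtPow hM (isExtPow_twist hEq hL p hN)

end Groth.Agent.Ext97
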